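import Mathlib
import Cfsg.Prelude.Def_LieRecognition
import Cfsg.Prelude.Def_Involutions
import Cfsg.Agent.StrEmb.Basic

/-!
The rank one set-up from a strongly embedded subgroup with a regular normal subgroup.
-/

set_option autoImplicit false

open Cfsg

namespace Cfsg.Agent.RK

theorem mem_stab_mk_iff {G : Type*} [Group G] {H : Subgroup G} {t u : G} :
    u ∈ MulAction.stabilizer G (t • (QuotientGroup.mk 1 : G ⧸ H)) ↔ t⁻¹ * (u * t) ∈ H := by
  rw [MulAction.mem_stabilizer_iff, smul_smul]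
  change (QuotientGroup.mk (u * t * 1) : G ⧸ H) = QuotientGroup.mk (t * 1) ↔ _
  rw [mul_one, mul_one, eq_comm, QuotientGroup.eq]

theorem stab_mk_one {G : Type*} [Group G] {H : Subgroup G} :
    MulAction.stabilizer G (QuotientGroup.mk 1 : G ⧸ H) = H := by
  ext u
  rw [MulAction.mem_stabilizer_iff]
  change (QuotientGroup.mk (u * 1) : G ⧸ H) = QuotientGroup.mk 1 ↔ _
  rw [mul_one, eq_comm, QuotientGroup.eq]
  simp

theorem mem_inf_map_iff {G : Type*} [Group G] {H : Subgroup G} {t d : G} :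
    d ∈ H ⊓ H.map (MulAut.conj t).toMonoidHom ↔ d ∈ H ∧ t⁻¹ * (d * t) ∈ H := by
  rw [Subgroup.mem_inf]
  refine and_congr_right fun _ => ?_
  constructor
  · rintro ⟨x, hx, rfl⟩
    have : t⁻¹ * ((MulAut.conj t).toMonoidHom x * t) = x := by
      change t⁻¹ * (t * x * t⁻¹ * t) = x
      group
    rw [this]
    exact hx
  · intro h
    refine ⟨_, h, ?_⟩
    change t * (t⁻¹ * (d * t)) * t⁻¹ = d
    group

/-- a strongly embedded subgroup with a normal subgroup regular on the other cosets yields a rank one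
set-up -/
theorem setup_of_stronglyEmbedded {G : Type*} [Group G] [Finite G] (H : Subgroup G)
    (hH : Cfsg.IsStronglyEmbedded H) (Q : Subgroup G) (hQH : Q ≤ H) (hQn : (Q.subgroupOf H).Normal)
    (htrans : ∀ g₁ g₂ : G, g₁ ∉ H → g₂ ∉ H → ∃ u ∈ Q, g₂⁻¹ * (u * g₁) ∈ H)
    (hreg : ∀ g : G, g ∉ H → ∀ u ∈ Q, g⁻¹ * (u * g) ∈ H → u = 1) :
    ∃ t : G, IsRankOneSetup G (G ⧸ H) (QuotientGroup.mk 1) t Q := by
  obtain ⟨s, hsH, hs⟩ := StrEmb.exists_involution_mem hH
  obtain ⟨g, hg⟩ : ∃ g, g ∉ H := by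
    by_contra hcon
    push Not at hcon
    exact hH.1 ((Subgroup.eq_top_iff' H).2 hcon)
  have ht2 : orderOf (g * s * g⁻¹) = 2 := by rw [StrEmb.orderOf_conj, hs]
  have htH : g * s * g⁻¹ ∉ H := by
    intro h
    exact hg (StrEmb.mem_of_conj_mem hH hs hsH h)
  generalize g * s * g⁻¹ = t at ht2 htH
  have hD : MulAction.stabilizer G (QuotientGroup.mk 1 : G ⧸ H) ⊓
      MulAction.stabilizer G (t • (QuotientGroup.mk 1 : G ⧸ H)) =
      H ⊓ H.map (MulAut.conj t).toMonoidHom := by
    ext d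
    rw [mem_inf_map_iff, Subgroup.mem_inf, stab_mk_one, mem_stab_mk_iff]
  have hodd := hH.2.2 t htH
  have hdec : ∀ h ∈ H, ∃ u ∈ Q, u⁻¹ * h ∈ H ⊓ H.map (MulAut.conj t).toMonoidHom := by
    intro h hh
    have hht : h * t ∉ H := fun hc => htH (by
      have := H.mul_mem (H.inv_mem hh) hc
      rwa [inv_mul_cancel_left] at this)
    obtain ⟨u, hu, hu2⟩ := htrans t (h * t) htH hht
    refine ⟨u, hu, ?_⟩
    rw [mem_inf_map_iff]
    refine ⟨H.mul_mem (H.inv_mem (hQH hu)) hh, ?_⟩
    have := H.inv_mem hu2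
    have e : ((h * t)⁻¹ * (u * t))⁻¹ = t⁻¹ * (u⁻¹ * h * t) := by group
    rw [e] at this
    exact this
  refine ⟨t, ?_⟩
  refine ⟨?_, StrEmb.mul_self_eq_one ht2, StrEmb.ne_one ht2, ?_, ?_, ?_, ?_, ?_, ?_, ?_⟩
  · rw [MulAction.is_two_pretransitive_iff]
    intro a b c d hab hcd
    obtain ⟨g1, hg1⟩ := MulAction.exists_smul_eq G a (QuotientGroup.mk 1 : G ⧸ H)
    obtain ⟨g2, hg2⟩ := MulAction.exists_smul_eq G c (QuotientGroup.mk 1 : G ⧸ H)
    obtain ⟨x, hx⟩ := QuotientGroup.mk_surjective (g1 • b)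
    obtain ⟨y, hy⟩ := QuotientGroup.mk_surjective (g2 • d)
    have hxH : x ∉ H := by
      intro h
      have h1 : (QuotientGroup.mk x : G ⧸ H) = QuotientGroup.mk 1 := by
        rw [eq_comm, QuotientGroup.eq]
        simpa using h
      rw [hx, ← hg1] at h1
      exact hab (MulAction.injective g1 h1).symm
    have hyH : y ∉ H := by
      intro h
      have h1 : (QuotientGroup.mk y : G ⧸ H) = QuotientGroup.mk 1 := by
        rw [eq_comm, QuotientGroup.eq]
        simpa using h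
      rw [hy, ← hg2] at h1
      exact hcd (MulAction.injective g2 h1).symm
    obtain ⟨u, hu, hu2⟩ := htrans x y hxH hyH
    have hu1 : u • (QuotientGroup.mk 1 : G ⧸ H) = QuotientGroup.mk 1 := by
      have := hQH hu
      rw [← stab_mk_one (H := H)] at this
      exact MulAction.mem_stabilizer_iff.1 this
    refine ⟨g2⁻¹ * u * g1, ?_, ?_⟩
    · rw [mul_smul, hg1, mul_smul, hu1, ← hg2, inv_smul_smul]
    · rw [mul_smul, mul_smul, ← hx]
      have : u • (QuotientGroup.mk x : G ⧸ H) = QuotientGroup.mk y := by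
        change (QuotientGroup.mk (u * x) : G ⧸ H) = QuotientGroup.mk y
        rw [eq_comm, QuotientGroup.eq]
        exact hu2
      rw [this, hy, inv_smul_smul]
  · rw [stab_mk_one]
    exact htH
  · rw [stab_mk_one]
    exact hQH
  · intro h hh x hx
    rw [stab_mk_one] at hh
    have := hQn.conj_mem ⟨x, hQH hx⟩ (Subgroup.mem_subgroupOf.2 hx) ⟨h, hh⟩
    exact Subgroup.mem_subgroupOf.1 this
  · rw [eq_bot_iff]
    intro u hu
    have hu1 := (Subgroup.mem_inf.1 hu).1
    have hu2 := mem_stab_mk_iff.1 (Subgroup.mem_inf.1 hu).2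
    rw [Subgroup.mem_bot]
    exact hreg t htH u hu1 hu2
  · rw [hD, stab_mk_one]
    apply le_antisymm
    · exact sup_le hQH inf_le_left
    · intro h hh
      obtain ⟨u, hu, hu2⟩ := hdec h hh
      have e : h = u * (u⁻¹ * h) := by group
      rw [e]
      exact Subgroup.mul_mem_sup hu hu2
  · have hcompl : Subgroup.IsComplement' (Q.subgroupOf H)
        ((H ⊓ H.map (MulAut.conj t).toMonoidHom).subgroupOf H) := by
      apply Subgroup.isComplement'_of_disjoint_and_mul_eq_univ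
      · rw [Subgroup.disjoint_def]
        intro x hx hx2
        apply Subtype.ext
        apply hreg t htH x (Subgroup.mem_subgroupOf.1 hx)
        exact (mem_inf_map_iff.1 (Subgroup.mem_subgroupOf.1 hx2)).2
      · rw [Set.eq_univ_iff_forall]
        intro x
        obtain ⟨u, hu, hu2⟩ := hdec x x.2
        refine Set.mem_mul.2 ⟨⟨u, hQH hu⟩, Subgroup.mem_subgroupOf.2 hu,
          ⟨u, hQH hu⟩⁻¹ * x, Subgroup.mem_subgroupOf.2 hu2, ?_⟩
        rw [mul_inv_cancel_left]
    have hc := hcompl.card_mul_card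
    rw [Nat.card_congr (Subgroup.subgroupOfEquivOfLe hQH).toEquiv,
      Nat.card_congr (Subgroup.subgroupOfEquivOfLe (inf_le_left :
        H ⊓ H.map (MulAut.conj t).toMonoidHom ≤ H)).toEquiv] at hc
    have he := hH.2.1
    rw [← hc, Nat.even_mul] at he
    rcases he with h | h
    · exact h
    · exact absurd h (Nat.not_even_iff_odd.2 hodd)
  · rw [hD]
    exact hodd

end Cfsg.Agent.RK
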